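import Groth.Prelude.Def_SymTen
import Mathlib.RingTheory.GradedAlgebra.Basic
import Mathlib.RingTheory.Ideal.GoingUp
import Mathlib.RingTheory.Nilpotent.Lemmas
import Mathlib.RingTheory.Polynomial.Basic
import Mathlib.RingTheory.Localization.FractionRing
import Mathlib.RingTheory.MvPolynomial.Basic
import Mathlib.Algebra.CharP.Lemmas
import Mathlib.Algebra.Polynomial.Lifts
import Mathlib.GroupTheory.OrderOfElement
import Mathlib.RingTheory.LocalRing.ResidueField.Ideal
import Mathlib.RingTheory.LittleWedderburn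
import Mathlib.Algebra.MvPolynomial.CommRing

/-!
# Powers in the ideal generated by symmetric tensors of small degree
-/

set_option autoImplicit false
universe u

open scoped TensorProduct
open Function

namespace Groth.Agent.SymTenCover

variable {A B : Type u} [CommRing A] [CommRing B] [Algebra A B] (𝒜 : ℕ → Submodule A B)
  [GradedAlgebra 𝒜] (d : ℕ)

local notation "T" => ⨂[A] _ : Fin d, B
local notation "tp" => (PiTensorProduct.tprod A : MultilinearMap A (fun _ : Fin d => B) T)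

/-- The homogeneous pure tensors generate `Csub`. -/
abbrev Csub : Subalgebra A T :=
  Algebra.adjoin A {t | ∃ (k : ℕ) (b : Fin d → B), (∀ i, b i ∈ 𝒜 k) ∧ t = PiTensorProduct.tprod A b}

variable {𝒜 d}

theorem tp_mem {k : ℕ} {b : Fin d → B} (hb : ∀ i, b i ∈ 𝒜 k) : tp b ∈ Csub 𝒜 d :=
  Algebra.subset_adjoin ⟨k, b, hb, rfl⟩

theorem perm_mem (σ : Equiv.Perm (Fin d)) : ∀ t ∈ Csub 𝒜 d, SymTen.perm A B d σ t ∈ Csub 𝒜 d := by
  have h : Csub 𝒜 d ≤ (Csub 𝒜 d).comap (SymTen.perm A B d σ) := Algebra.adjoin_le (by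
    rintro t ⟨k, b, hb, rfl⟩
    show SymTen.perm A B d σ _ ∈ Csub 𝒜 d
    rw [SymTen.perm_tprod]
    exact tp_mem (k := k) fun i => hb _)
  exact fun t ht => h ht

theorem perm_perm (σ τ : Equiv.Perm (Fin d)) (t : T) :
    SymTen.perm A B d σ (SymTen.perm A B d τ t) = SymTen.perm A B d (σ * τ) t := by
  have h : (SymTen.perm A B d σ).comp (SymTen.perm A B d τ) = SymTen.perm A B d (σ * τ) := by
    refine AlgHom.toLinearMap_injective (PiTensorProduct.ext (MultilinearMap.ext fun b => ?_))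
    simp [← Equiv.Perm.inv_def, mul_inv_rev]
  exact AlgHom.congr_fun h t

theorem perm_one (t : T) : SymTen.perm A B d 1 t = t := by
  have h : SymTen.perm A B d 1 = AlgHom.id A T := by
    refine AlgHom.toLinearMap_injective (PiTensorProduct.ext (MultilinearMap.ext fun b => ?_))
    simp [← Equiv.Perm.inv_def]
  exact AlgHom.congr_fun h t

theorem isIntegral_inclusion (D : Subalgebra A T) (hD : D = Csub 𝒜 d ⊓ SymTen.TS A B d) :
    (Subalgebra.inclusion (hD ▸ inf_le_left : D ≤ Csub 𝒜 d)).toRingHom.IsIntegral := by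
  classical
  intro x
  let p : Polynomial T := ∏ σ : Equiv.Perm (Fin d), (Polynomial.X - Polynomial.C (SymTen.perm A B d σ x.1))
  have hinv : ∀ τ, p.map (SymTen.perm A B d τ).toRingHom = p := fun τ => by
    simp only [p, Polynomial.map_prod, Polynomial.map_sub, Polynomial.map_X, Polynomial.map_C,
      AlgHom.toRingHom_eq_coe, RingHom.coe_coe, perm_perm]
    exact Fintype.prod_equiv (Equiv.mulLeft τ) _ _ fun σ => rfl
  have hC : p ∈ Polynomial.lifts (Csub 𝒜 d).toSubring.subtype := by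
    refine Subsemiring.prod_mem _ fun σ _ => ?_
    refine (Polynomial.mem_lifts _).2 ⟨Polynomial.X - Polynomial.C ⟨_, perm_mem σ x.1 x.2⟩, ?_⟩
    simp only [Polynomial.map_sub, Polynomial.map_X, Polynomial.map_C]
    rfl
  have hcoeff : ∀ n, p.coeff n ∈ D := fun n => by
    rw [hD]
    refine Algebra.mem_inf.2 ⟨?_, fun τ => ?_⟩
    · obtain ⟨c, hc⟩ := (Polynomial.lifts_iff_coeff_lifts p).1 hC n
      rw [← hc]; exact c.2
    · rw [← SymTen.perm_apply]
      conv_rhs => rw [← hinv τ]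
      rw [Polynomial.coeff_map]; rfl
  have hmonic : p.Monic := Polynomial.monic_prod_of_monic _ _ fun σ _ => Polynomial.monic_X_sub_C _
  have hsub : (↑p.coeffs : Set T) ⊆ D.toSubring := fun c hc => by
    obtain ⟨n, -, rfl⟩ := Polynomial.mem_coeffs_iff.1 hc
    exact hcoeff n
  let q := p.toSubring D.toSubring hsub
  have hq : q.map D.toSubring.subtype = p := Polynomial.map_toSubring p _ hsub
  have hqm : q.Monic := (Polynomial.monic_toSubring p _ hsub).2 hmonic
  refine ⟨q, hqm, Subtype.ext ?_⟩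
  have h0 : p.eval x.1 = 0 := by
    rw [Polynomial.eval_prod]
    exact Finset.prod_eq_zero (Finset.mem_univ 1) (by simp [perm_one])
  rw [← hq, Polynomial.eval_map] at h0
  show ((Csub 𝒜 d).val : _ →+* T) (Polynomial.eval₂ _ x q) = 0
  rw [Polynomial.hom_eval₂]
  exact h0

theorem le_pow_one (hgen : Algebra.adjoin A (𝒜 1 : Set B) = ⊤) (k : ℕ) : 𝒜 k ≤ 𝒜 1 ^ k := by
  classical
  intro x hx
  have hpow : ∀ n, 𝒜 1 ^ n ≤ 𝒜 n := fun n => by
    induction n with
    | zero =>
      rw [Submodule.pow_zero]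
      exact Submodule.one_le.2 SetLike.GradedOne.one_mem
    | succ n ih =>
      rw [pow_succ, Submodule.mul_le]
      exact fun a ha b hb => SetLike.GradedMul.mul_mem (ih ha) hb
  have hx' : x ∈ Submodule.span A (Submonoid.closure (𝒜 1 : Set B) : Set B) := by
    rw [← Algebra.adjoin_eq_span, hgen]; trivial
  suffices h : ∀ y ∈ Submodule.span A (Submonoid.closure (𝒜 1 : Set B) : Set B),
      (DirectSum.decompose 𝒜 y k : B) ∈ 𝒜 1 ^ k by
    have := h x hx'
    rwa [DirectSum.decompose_of_mem_same 𝒜 hx] at this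
  intro y hy
  induction hy using Submodule.span_induction with
  | mem y hy =>
    obtain ⟨n, hn⟩ : ∃ n, y ∈ 𝒜 1 ^ n := by
      induction hy using Submonoid.closure_induction with
      | mem z hz => exact ⟨1, by rwa [Submodule.pow_one]⟩
      | one => exact ⟨0, by rw [Submodule.pow_zero]; exact Submodule.one_le.1 le_rfl⟩
      | mul a b _ _ ha hb =>
        obtain ⟨n, hn⟩ := ha
        obtain ⟨m, hm⟩ := hb
        refine ⟨n + m, ?_⟩
        rw [pow_add]
        exact Submodule.mul_mem_mul hn hm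
    by_cases hnk : n = k
    · subst hnk; rwa [DirectSum.decompose_of_mem_same 𝒜 (hpow n hn)]
    · rw [DirectSum.decompose_of_mem_ne 𝒜 (hpow n hn) hnk]; exact zero_mem _
  | zero => simp
  | add a b _ _ ha hb => simpa using add_mem ha hb
  | smul c a _ ha => simpa [DirectSum.decompose_smul, DirectSum.smul_apply] using Submodule.smul_mem _ c ha

theorem exists_expansion (hgen : Algebra.adjoin A (𝒜 1 : Set B) = ⊤) {N : ℕ} (e : Fin N → B)
    (he : Submodule.span A (Set.range e) = 𝒜 1) {k : ℕ} {x : B} (hx : x ∈ 𝒜 (k + 1)) :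
    ∃ y : Fin N → B, (∀ j, y j ∈ 𝒜 k) ∧ x = ∑ j, e j * y j := by
  classical
  have hx' : x ∈ 𝒜 1 * 𝒜 1 ^ k := by rw [← pow_succ']; exact le_pow_one hgen _ hx
  refine Submodule.mul_induction_on hx' (fun a ha b hb => ?_) ?_
  · obtain ⟨c, rfl⟩ := Submodule.mem_span_range_iff_exists_fun A |>.1 (he ▸ ha)
    refine ⟨fun j => c j • b, fun j => Submodule.smul_mem _ _ ?_, ?_⟩
    · have : ∀ n, 𝒜 1 ^ n ≤ 𝒜 n := fun n => by
        induction n with
        | zero => rw [Submodule.pow_zero]; exact Submodule.one_le.2 SetLike.GradedOne.one_mem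
        | succ n ih =>
          rw [pow_succ, Submodule.mul_le]
          exact fun a ha b hb => SetLike.GradedMul.mul_mem (ih ha) hb
      exact this k hb
    · rw [Finset.sum_mul]
      exact Finset.sum_congr rfl fun j _ => by rw [smul_mul_assoc, mul_smul_comm]
  · rintro a b ⟨y, hy, rfl⟩ ⟨z, hz, rfl⟩
    exact ⟨y + z, fun j => add_mem (hy j) (hz j), by simp [mul_add, Finset.sum_add_distrib]⟩

section Eval

variable {L : Type u} [Field L] [Algebra A L] (χ : Csub 𝒜 d →ₐ[A] L)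

open Classical in
/-- `χ` extended by zero. -/
noncomputable def ext0 (t : T) : L := if h : t ∈ Csub 𝒜 d then χ ⟨t, h⟩ else 0

theorem ext0_mk {t : T} (h : t ∈ Csub 𝒜 d) : ext0 χ t = χ ⟨t, h⟩ := dif_pos h

theorem ext0_add {s t : T} (hs : s ∈ Csub 𝒜 d) (ht : t ∈ Csub 𝒜 d) :
    ext0 χ (s + t) = ext0 χ s + ext0 χ t := by
  rw [ext0_mk χ (add_mem hs ht), ext0_mk χ hs, ext0_mk χ ht, ← map_add]
  rfl

theorem ext0_mul {s t : T} (hs : s ∈ Csub 𝒜 d) (ht : t ∈ Csub 𝒜 d) :
    ext0 χ (s * t) = ext0 χ s * ext0 χ t := by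
  rw [ext0_mk χ (mul_mem hs ht), ext0_mk χ hs, ext0_mk χ ht, ← map_mul]
  rfl

theorem ext0_smul (a : A) {t : T} (ht : t ∈ Csub 𝒜 d) : ext0 χ (a • t) = a • ext0 χ t := by
  rw [ext0_mk χ (Subalgebra.smul_mem _ ht a), ext0_mk χ ht, ← map_smul]
  rfl

theorem ext0_zero : ext0 χ 0 = 0 := by rw [ext0_mk χ (zero_mem _)]; exact map_zero χ

theorem ext0_sum {ι : Type*} (s : Finset ι) (f : ι → T) (hf : ∀ i ∈ s, f i ∈ Csub 𝒜 d) :
    ext0 χ (∑ i ∈ s, f i) = ∑ i ∈ s, ext0 χ (f i) := by
  classical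
  induction s using Finset.induction_on with
  | empty => simpa using ext0_zero χ
  | insert a s ha ih =>
    have hs : ∀ i ∈ s, f i ∈ Csub 𝒜 d := fun i hi => hf i (Finset.mem_insert_of_mem hi)
    rw [Finset.sum_insert ha, Finset.sum_insert ha,
      ext0_add χ (hf a (Finset.mem_insert_self _ _)) (sum_mem hs), ih hs]

theorem ext0_tp_mul {n m : ℕ} {b c : Fin d → B} (hb : ∀ i, b i ∈ 𝒜 n) (hc : ∀ i, c i ∈ 𝒜 m) :
    ext0 χ (tp fun i => b i * c i) = ext0 χ (tp b) * ext0 χ (tp c) := by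
  rw [← ext0_mul χ (tp_mem hb) (tp_mem hc), PiTensorProduct.tprod_mul_tprod]
  rfl

variable (b₀ : Fin d → B)

open Classical in
/-- Evaluation in the slot `i`. -/
noncomputable def slot (i : Fin d) (n : ℕ) (y : B) : L :=
  ext0 χ (tp (update (fun j => b₀ j ^ n) i y))

variable {b₀} (hb₀ : ∀ i, b₀ i ∈ 𝒜 1)

include hb₀

theorem pow_mem' (n : ℕ) (i : Fin d) : b₀ i ^ n ∈ 𝒜 n := by
  simpa using SetLike.pow_mem_graded n (hb₀ i)

theorem update_mem {n : ℕ} {y : B} (hy : y ∈ 𝒜 n) (i j : Fin d) :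
    update (fun l => b₀ l ^ n) i y j ∈ 𝒜 n := by
  classical
  by_cases h : j = i
  · subst h; simpa using hy
  · rw [update_of_ne h]; exact pow_mem' hb₀ n j

theorem slot_add (i : Fin d) {n : ℕ} {y z : B} (hy : y ∈ 𝒜 n) (hz : z ∈ 𝒜 n) :
    slot χ b₀ i n (y + z) = slot χ b₀ i n y + slot χ b₀ i n z := by
  classical
  rw [slot, MultilinearMap.map_update_add, ext0_add χ (tp_mem (update_mem hb₀ hy i)) (tp_mem (update_mem hb₀ hz i))]
  rfl

theorem slot_smul (i : Fin d) {n : ℕ} (a : A) {y : B} (hy : y ∈ 𝒜 n) :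
    slot χ b₀ i n (a • y) = a • slot χ b₀ i n y := by
  classical
  rw [slot, MultilinearMap.map_update_smul, ext0_smul χ a (tp_mem (update_mem hb₀ hy i))]
  rfl

theorem slot_zero (i : Fin d) (n : ℕ) : slot χ b₀ i n 0 = 0 := by
  classical
  rw [slot, MultilinearMap.map_update_zero, ext0_zero]

theorem slot_mul (i : Fin d) {n m : ℕ} {y z : B} (hy : y ∈ 𝒜 n) (hz : z ∈ 𝒜 m) :
    slot χ b₀ i (n + m) (y * z) = slot χ b₀ i n y * slot χ b₀ i m z := by
  classical
  rw [slot, slot, slot, ← ext0_tp_mul χ (update_mem hb₀ hy i) (update_mem hb₀ hz i)]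
  congr 2
  funext j
  by_cases h : j = i
  · subst h; simp
  · simp [update_of_ne h, pow_add]

theorem slot_pow (i : Fin d) {n : ℕ} {y : B} (hy : y ∈ 𝒜 n) :
    ∀ a : ℕ, slot χ b₀ i (a * n) (y ^ a) = slot χ b₀ i n y ^ a := by
  classical
  intro a
  induction a with
  | zero =>
    rw [slot, zero_mul, pow_zero, pow_zero]
    have h1 : update (fun l => b₀ l ^ 0) i 1 = (1 : Fin d → B) := by
      funext j
      by_cases h : j = i
      · subst h; simp
      · simp [update_of_ne h]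
    rw [h1, ← PiTensorProduct.one_def (R := A) (A := fun _ : Fin d => B), ext0_mk χ (one_mem _)]
    exact map_one χ
  | succ a ih =>
    have hya : y ^ a ∈ 𝒜 (a * n) := by simpa using SetLike.pow_mem_graded a hy
    rw [Nat.succ_mul, pow_succ, pow_succ, slot_mul χ hb₀ i hya hy, ih]

theorem slot_base (i : Fin d) : slot χ b₀ i 1 (b₀ i) = ext0 χ (tp b₀) := by
  classical
  rw [slot]
  congr 2
  funext j
  by_cases h : j = i
  · subst h; simp
  · simp [update_of_ne h]

theorem tp_factor (n : ℕ) (b : Fin d → B) (hb : ∀ i, b i ∈ 𝒜 n) :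
    ext0 χ (tp b) * ext0 χ (tp fun j => b₀ j ^ n) ^ d =
      ext0 χ (tp fun j => b₀ j ^ n) * ∏ i, slot χ b₀ i n (b i) := by
  classical
  set c : Fin d → B := fun j => b₀ j ^ n with hc
  have hcm : ∀ i, c i ∈ 𝒜 n := pow_mem' hb₀ n
  suffices h : ∀ s : Finset (Fin d),
      ext0 χ (tp (s.piecewise b c)) * ext0 χ (tp c) ^ s.card = ext0 χ (tp c) * ∏ i ∈ s, slot χ b₀ i n (b i) by
    simpa using h Finset.univ
  intro s
  induction s using Finset.induction_on with
  | empty => simp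
  | insert j s hj ih =>
    have hps : ∀ (s : Finset (Fin d)) i, s.piecewise b c i ∈ 𝒜 n := fun s i => by
      by_cases h : i ∈ s <;> simp [h, hb, hcm]
    have hu : ∀ i, update c j (b j) i ∈ 𝒜 n := fun i => update_mem hb₀ (hb j) j i
    have hkey : ext0 χ (tp ((insert j s).piecewise b c)) * ext0 χ (tp c) =
        ext0 χ (tp (s.piecewise b c)) * slot χ b₀ j n (b j) := by
      rw [slot, ← hc, ← ext0_tp_mul χ (hps _) hcm, ← ext0_tp_mul χ (hps _) hu]
      congr 2
      funext i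
      by_cases h : i = j
      · subst h; simp [hj, mul_comm]
      · by_cases hi : i ∈ s <;> simp [h, hi, update_of_ne h]
    rw [Finset.card_insert_of_notMem hj, Finset.prod_insert hj, pow_succ', ← mul_assoc, hkey,
      mul_right_comm, ih]
    ring

theorem ext0_base_pow : ∀ n : ℕ, ext0 χ (tp fun j => b₀ j ^ n) = ext0 χ (tp b₀) ^ n := by
  intro n
  induction n with
  | zero =>
    simp only [pow_zero]
    rw [show (fun _ : Fin d => (1 : B)) = 1 from rfl, ← PiTensorProduct.one_def (R := A) (A := fun _ : Fin d => B),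
      ext0_mk χ (one_mem _)]
    exact map_one χ
  | succ n ih =>
    simp only [pow_succ]
    rw [ext0_tp_mul χ (pow_mem' hb₀ n) hb₀, ih]

variable (hχ : ext0 χ (PiTensorProduct.tprod A b₀) ≠ 0)
include hχ

theorem tp_const_ne_zero {n : ℕ} {f : B} (hf : f ∈ 𝒜 n) (h : ∀ i, slot χ b₀ i n f ≠ 0) :
    ext0 χ (tp fun _ => f) ≠ 0 := by
  intro h0
  have h1 := tp_factor χ hb₀ n (fun _ => f) fun _ => hf
  rw [h0, zero_mul, eq_comm, mul_eq_zero, ext0_base_pow χ hb₀] at h1
  rcases h1 with h1 | h1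
  · exact pow_ne_zero _ hχ h1
  · obtain ⟨i, -, hi⟩ := Finset.prod_eq_zero_iff.1 h1
    exact h i hi

theorem exists_slots_ne_zero : ∃ (n : ℕ) (f : B), 0 < n ∧ f ∈ 𝒜 n ∧ ∀ i, slot χ b₀ i n f ≠ 0 := by
  classical
  suffices h : ∀ s : Finset (Fin d), ∃ (n : ℕ) (f : B), 0 < n ∧ f ∈ 𝒜 n ∧ ∀ i ∈ s, slot χ b₀ i n f ≠ 0 by
    obtain ⟨n, f, hn, hf, h⟩ := h Finset.univ
    exact ⟨n, f, hn, hf, fun i => h i (Finset.mem_univ i)⟩
  intro s
  induction s using Finset.induction_on with
  | empty => exact ⟨1, 0, one_pos, zero_mem _, by simp⟩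
  | insert j s hj ih =>
    obtain ⟨n, f, hn, hf, hs⟩ := ih
    by_cases hjf : slot χ b₀ j n f = 0
    swap
    · exact ⟨n, f, hn, hf, fun i hi => (Finset.mem_insert.1 hi).elim (fun h => h ▸ hjf) (hs i)⟩
    let g : B := b₀ j ^ n
    have hg : g ∈ 𝒜 n := pow_mem' hb₀ n j
    have hgj : slot χ b₀ j n g ≠ 0 := by
      have := slot_pow χ hb₀ j (hb₀ j) n
      rw [mul_one] at this
      rw [this, slot_base χ hb₀]
      exact pow_ne_zero _ hχ
    let r : Fin d → L := fun i => slot χ b₀ i n g / slot χ b₀ i n f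
    obtain ⟨M, hM, hMp⟩ := Nat.exists_infinite_primes (ringChar L + 2 + ∑ i, orderOf (r i))
    have hM2 : 2 ≤ M := hMp.two_le
    let F : B := ∑ a ∈ Finset.range M, g ^ a * f ^ (M - 1 - a)
    have hterm : ∀ a ∈ Finset.range M, g ^ a * f ^ (M - 1 - a) ∈ 𝒜 ((M - 1) * n) := by
      intro a ha
      have h1 : g ^ a ∈ 𝒜 (a * n) := by simpa using SetLike.pow_mem_graded a hg
      have h2 : f ^ (M - 1 - a) ∈ 𝒜 ((M - 1 - a) * n) := by simpa using SetLike.pow_mem_graded _ hf
      have h3 := SetLike.GradedMul.mul_mem h1 h2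
      rwa [← add_mul, show a + (M - 1 - a) = M - 1 by simp at ha; omega] at h3
    have hF : F ∈ 𝒜 ((M - 1) * n) := sum_mem hterm
    have hev : ∀ i, slot χ b₀ i ((M - 1) * n) F =
        ∑ a ∈ Finset.range M, slot χ b₀ i n g ^ a * slot χ b₀ i n f ^ (M - 1 - a) := by
      intro i
      have hsum : ∀ S : Finset ℕ, S ⊆ Finset.range M →
          slot χ b₀ i ((M - 1) * n) (∑ a ∈ S, g ^ a * f ^ (M - 1 - a)) =
            ∑ a ∈ S, slot χ b₀ i n g ^ a * slot χ b₀ i n f ^ (M - 1 - a) := by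
        intro S
        induction S using Finset.induction_on with
        | empty => intro _; simpa using slot_zero χ hb₀ i _
        | insert a S ha ihS =>
          intro hS
          rw [Finset.sum_insert ha, Finset.sum_insert ha,
            slot_add χ hb₀ i (hterm a (hS (Finset.mem_insert_self _ _)))
              (sum_mem fun b hb => hterm b (hS (Finset.mem_insert_of_mem hb))),
            ihS fun b hb => hS (Finset.mem_insert_of_mem hb)]
          congr 1
          have haM : a < M := Finset.mem_range.1 (hS (Finset.mem_insert_self _ _))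
          have h1 : g ^ a ∈ 𝒜 (a * n) := by simpa using SetLike.pow_mem_graded a hg
          have h2 : f ^ (M - 1 - a) ∈ 𝒜 ((M - 1 - a) * n) := by simpa using SetLike.pow_mem_graded _ hf
          rw [show (M - 1) * n = a * n + (M - 1 - a) * n by rw [← add_mul]; congr 1; omega,
            slot_mul χ hb₀ i h1 h2, slot_pow χ hb₀ i hg, slot_pow χ hb₀ i hf]
      exact hsum _ Finset.Subset.rfl
    refine ⟨(M - 1) * n, F, Nat.mul_pos (by omega) hn, hF, fun i hi => ?_⟩
    rw [hev]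
    rcases Finset.mem_insert.1 hi with rfl | hi
    · rw [hjf, Finset.sum_eq_single (M - 1)]
      · simpa using pow_ne_zero _ hgj
      · intro a ha hne
        rw [zero_pow (by simp at ha; omega), mul_zero]
      · intro h; exact absurd (Finset.mem_range.2 (by omega)) h
    · have hfi := hs i hi
      have h1 : ∑ a ∈ Finset.range M, slot χ b₀ i n g ^ a * slot χ b₀ i n f ^ (M - 1 - a) =
          slot χ b₀ i n f ^ (M - 1) * ∑ a ∈ Finset.range M, r i ^ a := by
        rw [Finset.mul_sum]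
        refine Finset.sum_congr rfl fun a ha => ?_
        have haM := Finset.mem_range.1 ha
        simp only [r]
        rw [div_pow, show slot χ b₀ i n f ^ (M - 1) = slot χ b₀ i n f ^ a * slot χ b₀ i n f ^ (M - 1 - a) by
          rw [← pow_add]; congr 1; omega]
        field_simp
      rw [h1]
      refine mul_ne_zero (pow_ne_zero _ hfi) fun hz => ?_
      have hrM : r i ^ M = 1 := by
        have := geom_sum_mul (r i) M
        rw [hz, zero_mul] at this
        exact (sub_eq_zero.1 this.symm)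
      by_cases hr1 : r i = 1
      · rw [hr1] at hz
        simp only [one_pow, Finset.sum_const, Finset.card_range, nsmul_eq_mul, mul_one] at hz
        have hdvd := ringChar.dvd hz
        rcases (Nat.dvd_prime hMp).1 hdvd with h | h
        · exact CharP.ringChar_ne_one h
        · omega
      · have ho : orderOf (r i) ∣ M := orderOf_dvd_of_pow_eq_one hrM
        rcases (Nat.dvd_prime hMp).1 ho with h | h
        · exact hr1 (orderOf_eq_one_iff.1 h)
        · have hle : orderOf (r i) ≤ ∑ i, orderOf (r i) :=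
            Finset.single_le_sum (f := fun i => orderOf (r i)) (fun _ _ => Nat.zero_le _) (Finset.mem_univ i)
          omega

theorem exists_slots_ne_zero_one (hcard : ∀ s : Finset L, s.card < d → ∃ a : A, algebraMap A L a ∉ s) :
    ∃ f : B, f ∈ 𝒜 1 ∧ ∀ i, slot χ b₀ i 1 f ≠ 0 := by
  classical
  suffices h : ∀ s : Finset (Fin d), ∃ f : B, f ∈ 𝒜 1 ∧ ∀ i ∈ s, slot χ b₀ i 1 f ≠ 0 by
    obtain ⟨f, hf, h⟩ := h Finset.univ
    exact ⟨f, hf, fun i => h i (Finset.mem_univ i)⟩
  intro s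
  induction s using Finset.induction_on with
  | empty => exact ⟨0, zero_mem _, by simp⟩
  | insert j s hj ih =>
    obtain ⟨f, hf, hs⟩ := ih
    let g := b₀ j
    have hgj : slot χ b₀ j 1 g ≠ 0 := by rw [slot_base χ hb₀]; exact hχ
    by_cases hgood : ∀ i ∈ insert j s, slot χ b₀ i 1 g ≠ 0
    · exact ⟨g, hb₀ j, hgood⟩
    push_neg at hgood
    obtain ⟨i₀, hi₀, hi₀g⟩ := hgood
    let I := (insert j s).filter fun i => slot χ b₀ i 1 g ≠ 0
    have hI : I.card < d := by
      refine lt_of_lt_of_le (Finset.card_lt_card ⟨Finset.filter_subset _ _, fun h => ?_⟩)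
        ((Finset.card_le_univ _).trans (le_of_eq (Fintype.card_fin d)))
      exact (Finset.mem_filter.1 (h hi₀)).2 hi₀g
    obtain ⟨a, ha⟩ := hcard (I.image fun i => -slot χ b₀ i 1 f / slot χ b₀ i 1 g)
      (lt_of_le_of_lt Finset.card_image_le hI)
    refine ⟨f + a • g, add_mem hf (Submodule.smul_mem _ a (hb₀ j)), fun i hi h0 => ?_⟩
    rw [slot_add χ hb₀ i hf (Submodule.smul_mem _ a (hb₀ j)), slot_smul χ hb₀ i a (hb₀ j), Algebra.smul_def] at h0
    by_cases hg : slot χ b₀ i 1 g = 0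
    · rw [show slot χ b₀ i 1 g = 0 from hg, mul_zero, add_zero] at h0
      rcases Finset.mem_insert.1 hi with rfl | hi
      · exact hgj hg
      · exact hs i hi h0
    · refine ha (Finset.mem_image.2 ⟨i, Finset.mem_filter.2 ⟨hi, hg⟩, ?_⟩)
      rw [div_eq_iff hg]
      linear_combination -h0

theorem exists_symm_ne_zero {N : ℕ} (e : Fin N → B) (he : Submodule.span A (Set.range e) = 𝒜 1) :
    ∃ x : T, x ∈ Csub 𝒜 d ⊓ SymTen.TS A B d ∧
      x ∈ Submodule.span A {s | ∃ b : Fin d → B, (∀ i, b i ∈ 𝒜 1) ∧ s = PiTensorProduct.tprod A b} ∧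
      ext0 χ x ≠ 0 := by
  classical
  have hem : ∀ j, e j ∈ 𝒜 1 := fun j => he ▸ Submodule.subset_span ⟨j, rfl⟩
  let mon : (Fin d → Fin N) → (Fin N →₀ ℕ) := fun r => ∑ i, Finsupp.single (r i) 1
  let xm : (Fin N →₀ ℕ) → T := fun m => ∑ r ∈ Finset.univ.filter (fun r => mon r = m), tp fun i => e (r i)
  by_contra hno
  push_neg at hno
  have hzero : ∀ m, ext0 χ (xm m) = 0 := by
    intro m
    refine hno _ (Algebra.mem_inf.2 ⟨sum_mem fun r _ => tp_mem fun i => hem _, fun σ => ?_⟩)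
      (sum_mem fun r _ => Submodule.subset_span ⟨_, fun i => hem _, rfl⟩)
    simp only [xm, map_sum, PiTensorProduct.reindex_tprod]
    refine Finset.sum_bij' (fun r _ => fun i => r (σ.symm i)) (fun r _ => fun i => r (σ i))
      (fun r hr => ?_) (fun r hr => ?_) (fun r _ => by simp) (fun r _ => by simp) (fun r _ => rfl)
    · simp only [Finset.mem_filter, Finset.mem_univ, true_and] at hr ⊢
      exact (Equiv.sum_comp σ.symm fun i => Finsupp.single (r i) 1).trans hr
    · simp only [Finset.mem_filter, Finset.mem_univ, true_and] at hr ⊢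
      exact (Equiv.sum_comp σ fun i => Finsupp.single (r i) 1).trans hr
  let q : Fin d → MvPolynomial (Fin N) L := fun i =>
    ∑ j, MvPolynomial.monomial (Finsupp.single j 1) (slot χ b₀ i 1 (e j))
  have hprod : ∀ r : Fin d → Fin N, ∏ i, MvPolynomial.monomial (Finsupp.single (r i) 1) (slot χ b₀ i 1 (e (r i))) =
      MvPolynomial.monomial (∑ i, Finsupp.single (r i) 1) (∏ i, slot χ b₀ i 1 (e (r i))) := fun r => by
    induction (Finset.univ : Finset (Fin d)) using Finset.induction_on with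
    | empty => simp
    | insert a s ha ih => rw [Finset.prod_insert ha, ih, Finset.sum_insert ha, Finset.prod_insert ha, MvPolynomial.monomial_mul]
  have hq : ∏ i, q i = 0 := by
    refine MvPolynomial.ext _ _ fun m => ?_
    simp only [q, Finset.prod_univ_sum, Fintype.piFinset_univ, MvPolynomial.coeff_sum, MvPolynomial.coeff_zero,
      hprod, MvPolynomial.coeff_monomial]
    rw [← Finset.sum_filter]
    have h1 := congrArg (fun z => z * ext0 χ (tp b₀) ^ d) (hzero m)
    simp only [xm, zero_mul] at h1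
    rw [ext0_sum χ _ _ (fun (r : Fin d → Fin N) _ => tp_mem fun i => hem (r i)), Finset.sum_mul] at h1
    have h2 : ∀ r : Fin d → Fin N, ext0 χ (tp fun i => e (r i)) * ext0 χ (tp b₀) ^ d =
        ext0 χ (tp b₀) * ∏ i, slot χ b₀ i 1 (e (r i)) := fun r => by
      simpa using tp_factor χ hb₀ 1 (fun i => e (r i)) fun i => hem _
    simp only [h2, ← Finset.mul_sum] at h1
    exact (mul_eq_zero.1 h1).resolve_left hχ
  obtain ⟨i, -, hi⟩ := Finset.prod_eq_zero_iff.1 hq
  have hej : ∀ j, slot χ b₀ i 1 (e j) = 0 := fun j => by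
    have := congrArg (MvPolynomial.coeff (Finsupp.single j 1)) hi
    simpa [q, MvPolynomial.coeff_sum, MvPolynomial.coeff_monomial, Finsupp.single_left_inj] using this
  have hall : ∀ y ∈ 𝒜 1, slot χ b₀ i 1 y = 0 := fun y hy => by
    rw [← he] at hy
    suffices y ∈ 𝒜 1 ∧ slot χ b₀ i 1 y = 0 from this.2
    induction hy using Submodule.span_induction with
    | mem z hz => obtain ⟨j, rfl⟩ := hz; exact ⟨hem j, hej j⟩
    | zero => exact ⟨zero_mem _, slot_zero χ hb₀ i 1⟩
    | add a b _ _ ha hb =>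
      exact ⟨add_mem ha.1 hb.1, by rw [slot_add χ hb₀ i ha.1 hb.1, ha.2, hb.2, add_zero]⟩
    | smul a z _ hz =>
      exact ⟨Submodule.smul_mem _ a hz.1, by rw [slot_smul χ hb₀ i a hz.1, hz.2, smul_zero]⟩
  exact hχ (by rw [← slot_base χ hb₀ i]; exact hall _ (hb₀ i))

end Eval

theorem exists_pow_mem (hgen : Algebra.adjoin A (𝒜 1 : Set B) = ⊤) (hfg : (𝒜 1).FG)
    (D : Subalgebra A T) (hD : D = Csub 𝒜 d ⊓ SymTen.TS A B d) (S : Set D)
    (hS : ∀ (L : Type u) [Field L] [Algebra A L] (χ : Csub 𝒜 d →ₐ[A] L) (b₀ : Fin d → B),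
      (∀ i, b₀ i ∈ 𝒜 1) → ext0 χ (PiTensorProduct.tprod A b₀) ≠ 0 → ∃ x ∈ S, ext0 χ (x : T) ≠ 0)
    {k : ℕ} (hk : 0 < k) {t : T} (htD : t ∈ D)
    (htk : t ∈ Submodule.span A {s | ∃ b : Fin d → B, (∀ i, b i ∈ 𝒜 k) ∧ s = PiTensorProduct.tprod A b}) :
    ∃ m : ℕ, 0 < m ∧ (⟨t, htD⟩ : D) ^ m ∈ Ideal.span S := by
  classical
  suffices h : (⟨t, htD⟩ : D) ∈ (Ideal.span S).radical by
    obtain ⟨m, hm⟩ := h
    exact ⟨m + 1, Nat.succ_pos m, by rw [pow_succ]; exact Ideal.mul_mem_right _ _ hm⟩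
  rw [Ideal.radical_eq_sInf, Ideal.mem_sInf]
  rintro P ⟨hSP, hP⟩
  have hle : D ≤ Csub 𝒜 d := hD ▸ inf_le_left
  letI : Algebra D (Csub 𝒜 d) := (Subalgebra.inclusion hle).toRingHom.toAlgebra
  haveI : Algebra.IsIntegral D (Csub 𝒜 d) := ⟨isIntegral_inclusion D hD⟩
  obtain ⟨Q, -, hQ, hQP⟩ := Ideal.exists_ideal_over_prime_of_isIntegral (S := Csub 𝒜 d) P ⊥
    (by
      intro x hx
      have h0 : x = 0 := Subtype.ext (congrArg (fun z : Csub 𝒜 d => (z : T)) (RingHom.mem_ker.1 hx))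
      subst h0; exact P.zero_mem)
  let L := FractionRing (Csub 𝒜 d ⧸ Q)
  let χ : Csub 𝒜 d →ₐ[A] L := (IsScalarTower.toAlgHom A (Csub 𝒜 d ⧸ Q) L).comp (Ideal.Quotient.mkₐ A Q)
  have hχQ : ∀ z : Csub 𝒜 d, χ z = 0 ↔ z ∈ Q := fun z => by
    show algebraMap (Csub 𝒜 d ⧸ Q) L (Ideal.Quotient.mk Q z) = 0 ↔ z ∈ Q
    rw [map_eq_zero_iff _ (IsFractionRing.injective _ _), Ideal.Quotient.eq_zero_iff_mem]
  have hmemP : ∀ x : D, x ∈ P ↔ ext0 χ (x : T) = 0 := fun x => by
    rw [ext0_mk χ (hle x.2), hχQ, ← hQP]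
    rfl
  by_cases hex : ∃ b₀ : Fin d → B, (∀ i, b₀ i ∈ 𝒜 1) ∧ ext0 χ (PiTensorProduct.tprod A b₀) ≠ 0
  · obtain ⟨b₀, hb₀, hne⟩ := hex
    obtain ⟨x, hxS, hx⟩ := hS L χ b₀ hb₀ hne
    exact absurd ((hmemP x).1 (hSP (Ideal.subset_span hxS))) hx
  push_neg at hex
  obtain ⟨N, e, he⟩ := Submodule.fg_iff_exists_fin_generating_family.1 hfg
  have hem : ∀ j, e j ∈ 𝒜 1 := fun j => he ▸ Submodule.subset_span ⟨j, rfl⟩
  obtain ⟨k, rfl⟩ : ∃ j, k = j + 1 := ⟨k - 1, by omega⟩
  have htp : ∀ b : Fin d → B, (∀ i, b i ∈ 𝒜 (k + 1)) → ext0 χ (tp b) = 0 := by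
    intro b hb
    choose y hy hby using fun i => exists_expansion hgen e he (hb i)
    rw [show b = fun i => ∑ j, e j * y i j from funext hby, MultilinearMap.map_sum,
      ext0_sum χ _ _ (fun r _ => tp_mem (k := 1 + k) fun i => SetLike.GradedMul.mul_mem (hem _) (hy _ _))]
    refine Finset.sum_eq_zero fun r _ => ?_
    rw [ext0_tp_mul χ (fun i => hem (r i)) (fun i => hy i (r i)), hex _ (fun i => hem (r i)), zero_mul]
  rw [hmemP]
  suffices t ∈ Csub 𝒜 d ∧ ext0 χ t = 0 from this.2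
  clear htD
  induction htk using Submodule.span_induction with
  | mem z hz => obtain ⟨b, hb, rfl⟩ := hz; exact ⟨tp_mem hb, htp b hb⟩
  | zero => exact ⟨zero_mem _, ext0_zero χ⟩
  | add a b _ _ ha hb => exact ⟨add_mem ha.1 hb.1, by rw [ext0_add χ ha.1 hb.1, ha.2, hb.2, add_zero]⟩
  | smul a z _ hz => exact ⟨Subalgebra.smul_mem _ hz.1 a, by rw [ext0_smul χ a hz.1, hz.2, smul_zero]⟩

theorem exists_algebraMap_notMem (hres : ∀ p : PrimeSpectrum A, (d : Cardinal) ≤ Cardinal.mk p.asIdeal.ResidueField)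
    {L : Type u} [Field L] [Algebra A L] (s : Finset L) (hs : s.card < d) : ∃ a : A, algebraMap A L a ∉ s := by
  classical
  by_contra hno
  push_neg at hno
  let p : PrimeSpectrum A := ⟨RingHom.ker (algebraMap A L), RingHom.ker_isPrime _⟩
  let f : A ⧸ p.asIdeal → s := fun z => ⟨RingHom.kerLift (algebraMap A L) z, by
    obtain ⟨a, rfl⟩ := Ideal.Quotient.mk_surjective z
    rw [show RingHom.kerLift (algebraMap A L) (Ideal.Quotient.mk p.asIdeal a) = algebraMap A L a from rfl]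
    exact hno a⟩
  have hf : Function.Injective f := fun x y h =>
    RingHom.kerLift_injective (algebraMap A L) (congrArg Subtype.val h)
  haveI : p.asIdeal.IsPrime := p.isPrime
  haveI : Finite (A ⧸ p.asIdeal) := Finite.of_injective f hf
  have hfield : IsField (A ⧸ p.asIdeal) := Finite.isDomain_to_isField _
  have hsurj : Function.Surjective (algebraMap (A ⧸ p.asIdeal) p.asIdeal.ResidueField) :=
    IsFractionRing.surjective_iff_isField.2 hfield
  have h1 : (d : Cardinal) ≤ (s.card : Cardinal) :=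
    (hres p).trans ((Cardinal.mk_le_of_surjective hsurj).trans
      ((Cardinal.mk_le_of_injective hf).trans (le_of_eq (Cardinal.mk_coe_finset))))
  exact absurd (Nat.cast_le.1 h1) (by omega)

end Groth.Agent.SymTenCover
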